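import Cfsg.Agent.EqLemmas

/-!
# Simple subgroups of GL_4(2) of order 168 or 1344
* `simple_seven_structure` : such a group is isomorphic to GL_3(2)
-/

set_option autoImplicit false

namespace Cfsg.Agent.AltEightSub

open MulAction

local notation "V" => (Fin 4 → ZMod 2)

set_option maxHeartbeats 1000000

theorem card_GL_small : Nat.card (GL (Fin 1) (ZMod 2)) ≤ 6 ∧ Nat.card (GL (Fin 2) (ZMod 2)) ≤ 6 ∧
    Nat.card (GL (Fin 3) (ZMod 2)) = 168 := by
  haveI : Fact (Nat.Prime 2) := ⟨Nat.prime_two⟩
  refine ⟨?_, ?_, ?_⟩ <;>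
    · rw [Matrix.card_GL_field]
      simp [Fin.prod_univ_succ, ZMod.card]

/-- A homomorphism to the automorphisms of a space of dimension at most three. -/
theorem small_target {T : Type*} [Group T] [Finite T] (h168 : 168 ≤ Nat.card T)
    {W : Type*} [AddCommGroup W] [Module (ZMod 2) W] [Module.Finite (ZMod 2) W]
    (hd : Module.finrank (ZMod 2) W ≤ 3) (hd0 : 0 < Module.finrank (ZMod 2) W)
    (f : T →* (Module.End (ZMod 2) W)ˣ) (hf : Function.Injective f) :
    Nat.card T = 168 ∧ Nonempty (T ≃* GL (Fin 3) (ZMod 2)) := by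
  haveI : Fact (Nat.Prime 2) := ⟨Nat.prime_two⟩
  have key : ∀ d, Module.finrank (ZMod 2) W = d → ∃ g : T →* GL (Fin d) (ZMod 2), Function.Injective g :=
    fun d hd' => by
      let e : (Module.End (ZMod 2) W)ˣ ≃* GL (Fin d) (ZMod 2) :=
        Units.mapEquiv (LinearMap.toMatrixAlgEquiv (Module.finBasisOfFinrankEq (ZMod 2) W hd')).toMulEquiv
      exact ⟨e.toMonoidHom.comp f, e.injective.comp hf⟩
  rcases (show Module.finrank (ZMod 2) W = 1 ∨ Module.finrank (ZMod 2) W = 2 ∨ Module.finrank (ZMod 2) W = 3 by omega)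
    with h | h | h <;> obtain ⟨g, hg⟩ := key _ h <;> have hle := Nat.card_le_card_of_injective _ hg
  · have := card_GL_small.1; omega
  · have := card_GL_small.2.1; omega
  · have h3 := card_GL_small.2.2
    have hbij : Function.Bijective g :=
      (Nat.bijective_iff_injective_and_card _).2 ⟨hg, by omega⟩
    exact ⟨by omega, ⟨MulEquiv.ofBijective _ hbij⟩⟩

theorem simple_seven_structure (T : Subgroup (GL (Fin 4) (ZMod 2))) [IsSimpleGroup T]
    (hT : ¬ IsMulCommutative T) (hn : Nat.card T = 168 ∨ Nat.card T = 1344) :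
    Nat.card T = 168 ∧ Nonempty (T ≃* GL (Fin 3) (ZMod 2)) := by
  classical
  haveI : Fact (Nat.Prime 2) := ⟨Nat.prime_two⟩
  haveI : Fact (Nat.Prime 7) := ⟨by norm_num⟩
  let ρ : T →* Module.End (ZMod 2) V :=
    { toFun := fun t => Matrix.mulVecLin ((t : GL (Fin 4) (ZMod 2)) : Matrix (Fin 4) (Fin 4) (ZMod 2))
      map_one' := by simp only [OneMemClass.coe_one, Units.val_one, Matrix.mulVecLin_one]; rfl
      map_mul' := fun s t => by simp only [Subgroup.coe_mul, Units.val_mul, Matrix.mulVecLin_mul]; rfl }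
  have hsmul : ∀ (t : T) (v : V), t • v = ρ t v := fun t v => rfl
  have hρinj : Function.Injective ρ := fun s t h => Subtype.ext (Units.ext (Matrix.toLin'.injective h))
  have h168 : 168 ≤ Nat.card T := by omega
  -- a proper nonzero invariant subspace suffices
  suffices hW : ∃ W : Submodule (ZMod 2) V, W ≠ ⊥ ∧ W ≠ ⊤ ∧ ∀ t : T, ∀ w ∈ W, ρ t w ∈ W by
    obtain ⟨W, hW0, hW1, hWi⟩ := hW
    have hfr : Module.finrank (ZMod 2) V = 4 := by simp
    have hd0 : 0 < Module.finrank (ZMod 2) W :=
      Nat.pos_of_ne_zero fun h => hW0 (Submodule.finrank_eq_zero.1 h)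
    have hd : Module.finrank (ZMod 2) W < 4 := by
      have := Submodule.finrank_lt hW1; omega
    have hq := Submodule.finrank_quotient_add_finrank W
    rw [hfr] at hq
    let f1 : T →* (Module.End (ZMod 2) W)ˣ := MonoidHom.toHomUnits
      { toFun := fun t => (ρ t).restrict (hWi t)
        map_one' := by ext w; simp
        map_mul' := fun s t => by ext w; simp }
    let f2 : T →* (Module.End (ZMod 2) (V ⧸ W))ˣ := MonoidHom.toHomUnits
      { toFun := fun t => W.mapQ W (ρ t) (fun w hw => hWi t w hw)
        map_one' := by ext w; simp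
        map_mul' := fun s t => by ext w; simp }
    rcases f1.normal_ker.eq_bot_or_eq_top with h1 | h1
    · exact small_target h168 (by omega) hd0 f1 ((MonoidHom.ker_eq_bot_iff _).1 h1)
    rcases f2.normal_ker.eq_bot_or_eq_top with h2 | h2
    · exact small_target h168 (by omega) (by omega) f2 ((MonoidHom.ker_eq_bot_iff _).1 h2)
    exfalso
    -- the group would stabilise V ⊇ W ⊇ 0
    apply hT
    have e1 : ∀ t : T, ∀ w ∈ W, ρ t w = w := fun t w hw => by
      have h := congrArg (fun u : (Module.End (ZMod 2) W)ˣ => (((u : Module.End (ZMod 2) W) ⟨w, hw⟩ : W) : V))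
        (MonoidHom.mem_ker.1 (show t ∈ f1.ker by rw [h1]; trivial))
      exact h
    have e2 : ∀ t : T, ∀ v : V, ρ t v - v ∈ W := fun t v => by
      have h := congrArg (fun u : (Module.End (ZMod 2) (V ⧸ W))ˣ => (u : Module.End (ZMod 2) (V ⧸ W)) (Submodule.Quotient.mk v))
        (MonoidHom.mem_ker.1 (show t ∈ f2.ker by rw [h2]; trivial))
      exact (Submodule.Quotient.eq W).1 h
    refine ⟨⟨fun s t => hρinj (LinearMap.ext fun v => ?_)⟩⟩
    rw [map_mul, map_mul]
    show ρ s (ρ t v) = ρ t (ρ s v)
    have hs := e1 s _ (e2 t v)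
    have ht := e1 t _ (e2 s v)
    rw [map_sub] at hs ht
    have e3 : ρ s (ρ t v) = ρ t v - v + ρ s v := sub_eq_iff_eq_add.1 hs
    have e4 : ρ t (ρ s v) = ρ s v - v + ρ t v := sub_eq_iff_eq_add.1 ht
    rw [e3, e4]; abel
  -- a fixed nonzero vector suffices
  suffices hmain : (∃ v : V, v ≠ 0 ∧ ∀ t : T, t • v = v) ∨
      ∃ W : Submodule (ZMod 2) V, W ≠ ⊥ ∧ W ≠ ⊤ ∧ ∀ t : T, ∀ w ∈ W, ρ t w ∈ W by
    rcases hmain with ⟨v, hv0, hv⟩ | h
    · refine ⟨Submodule.span (ZMod 2) {v}, by simpa [Submodule.span_singleton_eq_bot] using hv0, fun h => ?_, ?_⟩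
      · have := congrArg (fun W : Submodule (ZMod 2) V => Module.finrank (ZMod 2) W) h
        simp only [finrank_span_singleton hv0, finrank_top, Module.finrank_fin_fun] at this
        omega
      · intro t w hw
        obtain ⟨a, rfl⟩ := Submodule.mem_span_singleton.1 hw
        rw [map_smul, ← hsmul, hv t]
        exact Submodule.smul_mem _ _ (Submodule.mem_span_singleton_self v)
    · exact h
  have hdvd : ∀ v : V, Nat.card (orbit T v) ∣ Nat.card T := fun v =>
    ⟨Nat.card (stabilizer T v), by
      rw [Nat.card_congr (orbitEquivQuotientStabilizer T v)]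
      exact Subgroup.card_eq_card_quotient_mul_card_subgroup _⟩
  have hnz : ∀ v : V, v ≠ 0 → ∀ t : T, t • v ≠ 0 := fun v hv t h => hv (by
    have := congrArg (ρ t⁻¹) (show ρ t v = 0 from h)
    rw [map_zero] at this
    rw [← this]
    show v = (ρ t⁻¹ * ρ t) v
    rw [← map_mul, inv_mul_cancel, map_one]; rfl)
  obtain ⟨x, hx⟩ : ∃ x : T, orderOf x = 7 := exists_prime_orderOf_dvd_card' 7 (by
    rcases hn with h | h <;> rw [h] <;> norm_num)
  by_contra hcon
  push Not at hcon
  obtain ⟨hnofix, hnoW⟩ := hcon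
  have hsmall : ∀ v : V, v ≠ 0 → 7 ≤ Nat.card (orbit T v) := by
    intro v hv
    by_contra hlt
    let f : T →* Equiv.Perm (orbit T v) := MulAction.toPermHom T (orbit T v)
    rcases f.normal_ker.eq_bot_or_eq_top with h | h
    · have h1 := Subgroup.card_dvd_of_injective f ((MonoidHom.ker_eq_bot_iff _).1 h)
      rw [Nat.card_perm] at h1
      have h7 : 7 ∣ (Nat.card (orbit T v)).factorial := Dvd.dvd.trans (by
        rcases hn with e | e <;> rw [e] <;> norm_num) h1
      exact hlt ((Fact.out : Nat.Prime 7).dvd_factorial.1 h7)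
    · obtain ⟨t, ht⟩ := hnofix v hv
      exact ht (congrArg Subtype.val (congrArg (fun σ : Equiv.Perm (orbit T v) => σ ⟨v, mem_orbit_self v⟩)
        (MonoidHom.mem_ker.1 (show t ∈ f.ker by rw [h]; trivial))))
  -- some orbit has length seven
  obtain ⟨v, hv0, hv7⟩ : ∃ v : V, v ≠ 0 ∧ Nat.card (orbit T v) = 7 := by
    by_contra hc
    push Not at hc
    have h8 : ∀ v : V, v ≠ 0 → 8 ≤ Nat.card (orbit T v) := fun v hv => by
      have := hsmall v hv; have := hc v hv; omega
    have hsub : ∀ v : V, v ≠ 0 → orbit T v ⊆ ({0}ᶜ : Set V) := by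
      rintro v hv _ ⟨t, rfl⟩; exact hnz v hv t
    have h15 : ({0}ᶜ : Set V).ncard = 15 := by
      rw [Set.ncard_compl, Set.ncard_singleton]; simp
    set v1 : V := fun _ => 1
    have hv1 : v1 ≠ 0 := fun h => one_ne_zero (congrFun h 0)
    by_cases hall : ({0}ᶜ : Set V) ⊆ orbit T v1
    · have h := hdvd v1
      rw [Nat.card_coe_set_eq, Set.Subset.antisymm (hsub v1 hv1) hall, h15] at h
      rcases hn with e | e <;> rw [e] at h <;> norm_num at h
    · obtain ⟨v2, hv2, hv2'⟩ := Set.not_subset.1 hall
      have hdisj : Disjoint (orbit T v1) (orbit T v2) := by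
        rw [Set.disjoint_left]
        intro y hy1 hy2
        exact hv2' (by rw [← orbit_eq_iff.2 hy1, orbit_eq_iff.2 hy2]; exact mem_orbit_self v2)
      have h1 := Set.ncard_le_ncard (Set.union_subset (hsub v1 hv1) (hsub v2 hv2)) (Set.toFinite _)
      rw [Set.ncard_union_eq hdisj, h15, ← Nat.card_coe_set_eq, ← Nat.card_coe_set_eq] at h1
      have := h8 v1 hv1
      have := h8 v2 hv2
      omega
  set Q := orbit T v
  -- an element of order seven acts regularly on Q
  have hxQ : ∀ u ∈ Q, x • u ≠ u := by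
    intro u hu hfix
    let f : T →* Equiv.Perm Q := MulAction.toPermHom T Q
    have hinj : Function.Injective f := by
      rw [← MonoidHom.ker_eq_bot_iff]
      refine f.normal_ker.eq_bot_or_eq_top.resolve_right fun h => ?_
      obtain ⟨t, ht⟩ := hnofix v hv0
      exact ht (congrArg Subtype.val (congrArg (fun σ : Equiv.Perm Q => σ ⟨v, mem_orbit_self v⟩)
        (MonoidHom.mem_ker.1 (show t ∈ f.ker by rw [h]; trivial))))
    have ho : orderOf (f x) = 7 := (orderOf_injective f hinj x).trans hx
    obtain ⟨k, hk⟩ := Equiv.Perm.cycleType_prime_order (σ := f x) (by rw [ho]; norm_num)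
    have hs := (f x).sum_cycleType
    rw [hk, ho, Multiset.sum_replicate, smul_eq_mul] at hs
    have hlt : (f x).support.card < Fintype.card Q := by
      refine Finset.card_lt_univ_of_notMem (x := ⟨u, hu⟩) ?_
      rw [Equiv.Perm.mem_support, not_not]
      exact Subtype.ext hfix
    rw [← Nat.card_eq_fintype_card, hv7] at hlt
    omega
  let S : Module.End (ZMod 2) V := ∑ i ∈ Finset.range 7, ρ (x ^ i)
  have hSapp : ∀ u : V, S u = ∑ i ∈ Finset.range 7, (x ^ i) • u := fun u => by
    simp only [S, LinearMap.sum_apply, hsmul]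
  set s : V := ∑ u ∈ Q.toFinset, u with hs
  have hsfix : ∀ t : T, t • s = s := by
    intro t
    rw [hsmul, hs, map_sum]
    refine Finset.sum_nbij (fun u => ρ t u) (fun u hu => ?_) (fun a _ b _ h => ?_) (fun u hu => ?_) (fun u _ => rfl)
    · rw [Set.mem_toFinset] at hu ⊢
      exact mem_orbit_of_mem_orbit t hu
    · exact MulAction.injective t h
    · rw [Finset.mem_coe, Set.mem_toFinset] at hu
      exact ⟨t⁻¹ • u, by simpa using mem_orbit_of_mem_orbit t⁻¹ hu, smul_inv_smul t u⟩
  have hSQ : ∀ u ∈ Q, S u = s := by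
    intro u hu
    have hinj : Set.InjOn (fun i : ℕ => (x ^ i) • u) ↑(Finset.range 7) := by
      intro i hi j hj hij
      simp only [Finset.coe_range, Set.mem_Iio] at hi hj
      by_contra hne
      wlog hlt : i < j generalizing i j
      · exact this hij.symm hj hi (Ne.symm hne) (by omega)
      have h2 : (x ^ (j - i)) • u = u := by
        have h1 : (x ^ i) • ((x ^ (j - i)) • u) = (x ^ i) • u := by
          rw [← mul_smul, ← pow_add, Nat.add_sub_cancel' hlt.le]; exact hij.symm
        exact MulAction.injective _ h1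
      obtain ⟨m, hm⟩ := exists_pow_eq_self_of_coprime (x := x) (n := j - i)
        (Nat.Coprime.symm ((Fact.out : Nat.Prime 7).coprime_iff_not_dvd.2 fun h => by
          have := Nat.le_of_dvd (by omega) h; omega) |> fun h => hx ▸ h)
      apply hxQ u hu
      rw [← hm]
      clear hm
      induction m with
      | zero => rw [pow_zero, one_smul]
      | succ m ih => rw [pow_succ, mul_smul, h2, ih]
    have himg : (Finset.range 7).image (fun i : ℕ => (x ^ i) • u) = Q.toFinset := by
      refine Finset.eq_of_subset_of_card_le (fun y hy => ?_) ?_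
      · obtain ⟨i, -, rfl⟩ := Finset.mem_image.1 hy
        rw [Set.mem_toFinset]
        exact mem_orbit_of_mem_orbit _ hu
      · rw [Finset.card_image_of_injOn hinj, Finset.card_range, Set.toFinset_card, ← Nat.card_eq_fintype_card]
        omega
    rw [hSapp, hs, ← himg, Finset.sum_image hinj]
  by_cases hs0 : s = 0
  · obtain ⟨t, w, hw, hne⟩ := hnoW (Submodule.span (ZMod 2) Q)
      (fun h => hv0 (by
        have := Submodule.subset_span (R := ZMod 2) (mem_orbit_self v : v ∈ Q)
        rw [h] at this; exact (Submodule.mem_bot _).1 this))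
      (fun h => by
        have hle : Submodule.span (ZMod 2) Q ≤ LinearMap.ker S :=
          Submodule.span_le.2 fun u hu => LinearMap.mem_ker.2 ((hSQ u hu).trans hs0)
        -- x fixes a nonzero vector
        have hp : IsPGroup 7 (Subgroup.zpowers x) := IsPGroup.of_card (n := 1) (by rw [Nat.card_zpowers, hx, pow_one])
        have hmod := hp.card_modEq_card_fixedPoints V
        obtain ⟨w, hw0, hwx⟩ : ∃ w : V, w ≠ 0 ∧ x • w = w := by
          by_contra hc
          push Not at hc
          have hone : fixedPoints (Subgroup.zpowers x) V = {0} := by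
            ext w
            rw [Set.mem_singleton_iff, mem_fixedPoints]
            refine ⟨fun h => ?_, fun h g => ?_⟩
            · by_contra hw; exact hc w hw (h ⟨x, Subgroup.mem_zpowers x⟩)
            · subst h; exact map_zero (ρ (g : T))
          rw [hone, Nat.card_coe_set_eq, Set.ncard_singleton] at hmod
          simp [Nat.ModEq] at hmod
        have hS : S w = 0 := LinearMap.mem_ker.1 (hle (by rw [h]; trivial))
        rw [hSapp] at hS
        have hpow : ∀ i : ℕ, (x ^ i) • w = w := fun i => by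
          induction i with
          | zero => rw [pow_zero, one_smul]
          | succ i ih => rw [pow_succ, mul_smul, hwx, ih]
        simp only [hpow, Finset.sum_const, Finset.card_range] at hS
        apply hw0
        have e7 : (7 : ℕ) • w = w := by
          rw [← Nat.cast_smul_eq_nsmul (ZMod 2), show ((7 : ℕ) : ZMod 2) = 1 from rfl, one_smul]
        rw [← e7, hS])
    apply hne
    refine Submodule.span_induction (p := fun y _ => ρ t y ∈ Submodule.span (ZMod 2) Q) ?_ ?_ ?_ ?_ hw
    · exact fun y hy => Submodule.subset_span (mem_orbit_of_mem_orbit t hy)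
    · rw [map_zero]; exact zero_mem _
    · exact fun a b _ _ ha hb => by rw [map_add]; exact add_mem ha hb
    · exact fun r a _ ha => by rw [map_smul]; exact Submodule.smul_mem _ _ ha
  · obtain ⟨t, ht⟩ := hnofix s hs0
    exact ht (hsfix t)

end Cfsg.Agent.AltEightSub
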