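import Cfsg.Agent.EqLemmas
import Cfsg.Agent.Lib.Transfer.Focal
import Cfsg.Agent.S4337

/-!
# Simple subgroups with a three-cycle in groups of degree 8, and their normalisers
* `eq_bot_of_card_le_four`, `eq_alternatingGroup_of_transitive`
* `exists_three_cycle_mem` : order divisible by 9 gives a three-cycle
* `normalizer_structure`   : `A_k`/`S_k` on the support
-/

set_option autoImplicit false

namespace Cfsg.Agent.AltEightSub

open Equiv MulAction
open scoped Pointwise

/-- A simple nonabelian group acts trivially on at most four points. -/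
theorem smul_eq_of_card_le_four {T : Type*} [Group T] [Finite T] [IsSimpleGroup T]
    (hT : ¬ IsMulCommutative T) {β : Type*} [MulAction T β] [Finite β] (hβ : Nat.card β ≤ 4)
    (t : T) (b : β) : t • b = b := by
  classical
  have := Fintype.ofFinite β
  let f : T →* Perm β := MulAction.toPermHom T β
  rcases f.normal_ker.eq_bot_or_eq_top with h | h
  · exfalso
    have hinj : Function.Injective f := (MonoidHom.ker_eq_bot_iff f).1 h
    have hs : Group.IsSolvable (Perm β) := by
      have : Group.IsSolvable (Perm (Fin 4)) := S4337.perm4_solvable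
      rw [Nat.card_eq_fintype_card] at hβ
      obtain ⟨e⟩ : Nonempty (β ↪ Fin 4) := Function.Embedding.nonempty_of_card_le (by simpa using hβ)
      exact Group.isSolvable_of_isSolvable_injective
        (f := (Perm.viaEmbeddingHom e : Perm β →* Perm (Fin 4))) (Perm.viaEmbeddingHom_injective e)
    have : Group.IsSolvable T := Group.isSolvable_of_isSolvable_injective hinj
    exact hT ⟨⟨IsSimpleGroup.comm_iff_isSolvable.2 inferInstance⟩⟩
  · have : f t = 1 := MonoidHom.mem_ker.1 (h ▸ Subgroup.mem_top t)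
    exact congrArg (fun σ : Perm β => σ b) this

/-- A transitive simple group of degree at most eight containing a three-cycle is alternating. -/
theorem eq_alternatingGroup_of_transitive {α : Type*} [Fintype α] [DecidableEq α]
    (hα : Fintype.card α ≤ 8) (T : Subgroup (Perm α)) [IsSimpleGroup T] (hT : ¬ IsMulCommutative T)
    [IsPretransitive T α] {c : Perm α} (hc : c.IsThreeCycle) (hcT : c ∈ T) :
    T = alternatingGroup α := by
  have hne : Nonempty α := by
    obtain ⟨a, -⟩ := Finset.card_pos.1 (by rw [hc.card_support]; norm_num : 0 < c.support.card)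
    exact ⟨a⟩
  have hprim : IsPreprimitive T α := by
    constructor
    intro B hB
    rcases Set.eq_empty_or_nonempty B with rfl | hBne
    · exact Or.inl Set.subsingleton_empty
    by_cases hB1 : B.Subsingleton
    · exact Or.inl hB1
    right
    have h2 : 2 ≤ B.ncard := by
      by_contra h
      exact hB1 ((Set.ncard_le_one_iff_subsingleton).1 (by omega))
    have hmul := hB.ncard_block_mul_ncard_orbit_eq hBne
    rw [Nat.card_eq_fintype_card] at hmul
    have h4 : Nat.card (MulAction.orbit T B) ≤ 4 := by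
      rw [Nat.card_coe_set_eq]
      by_contra h
      nlinarith
    have hfix : ∀ t : T, t • B = B := fun t =>
      congrArg Subtype.val (smul_eq_of_card_le_four hT h4 t ⟨B, MulAction.mem_orbit_self B⟩)
    obtain ⟨b, hb⟩ := hBne
    refine Set.eq_univ_of_forall fun a => ?_
    obtain ⟨t, rfl⟩ := exists_smul_eq T b a
    exact hfix t ▸ Set.smul_mem_smul_set hb
  refine le_antisymm (fun t ht => ?_) (Perm.alternatingGroup_le_of_isPreprimitive_of_isThreeCycle_mem hprim hc hcT)
  -- the sign vanishes on a nonabelian simple group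
  rcases (Perm.sign.comp T.subtype).normal_ker.eq_bot_or_eq_top with h | h
  · exfalso
    have hinj : Function.Injective (Perm.sign.comp T.subtype) := (MonoidHom.ker_eq_bot_iff _).1 h
    exact hT ⟨⟨fun a b => hinj (by rw [map_mul, map_mul, mul_comm])⟩⟩
  · have h1 : (⟨t, ht⟩ : T) ∈ (Perm.sign.comp T.subtype).ker := by rw [h]; trivial
    exact Perm.mem_alternatingGroup.2 (MonoidHom.mem_ker.1 h1)

theorem exists_three_cycle_mem (T : Subgroup (Perm (Fin 8))) (h9 : 9 ∣ Nat.card T) :
    ∃ c ∈ T, c.IsThreeCycle := by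
  have : Fact (Nat.Prime 3) := ⟨Nat.prime_three⟩
  obtain ⟨P, hP⟩ := Sylow.exists_subgroup_card_pow_prime 3 (G := T) (n := 2) (by simpa using h9)
  have hcard : Nat.card (P.map T.subtype) = 9 := by
    rw [Subgroup.card_map_of_injective T.subtype_injective, hP]; norm_num
  set c0 : Perm (Fin 8) := swap 0 1 * swap 0 2 with hc0
  have h3 : c0.IsThreeCycle := Perm.isThreeCycle_swap_mul_swap_same (by decide) (by decide) (by decide)
  have hrel : ¬ 3 ∣ (P.map T.subtype).relIndex ⊤ := by
    rw [Subgroup.relIndex_top_right]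
    intro h
    have h1 := (P.map T.subtype).card_mul_index
    rw [hcard, Nat.card_perm, Nat.card_eq_fintype_card, Fintype.card_fin] at h1
    obtain ⟨k, hk⟩ := h
    rw [hk, show Nat.factorial 8 = 40320 from rfl] at h1
    omega
  obtain ⟨g, -, hg⟩ := Transfer.exists_conj_le_of_not_dvd_relIndex (p := 3) (H := ⊤) (S := P.map T.subtype)
    (Q := Subgroup.zpowers c0) le_top (IsPGroup.of_card (n := 2) (by rw [hcard]; norm_num)) hrel le_top
    (IsPGroup.of_card (n := 1) (by rw [Nat.card_zpowers, h3.orderOf, pow_one]))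
  refine ⟨g * c0 * g⁻¹, Subgroup.map_subtype_le P (hg ⟨c0, Subgroup.mem_zpowers c0, rfl⟩), ?_⟩
  rw [Perm.IsThreeCycle, Perm.cycleType_conj]
  exact h3

theorem eq_alternatingGroup_or_eq_top {α : Type*} [Fintype α] [DecidableEq α] [Nontrivial α]
    {K : Subgroup (Perm α)} (h : alternatingGroup α ≤ K) : K = alternatingGroup α ∨ K = ⊤ := by
  have h2 := Subgroup.index_dvd_of_le h
  rw [alternatingGroup.index_eq_two, Nat.dvd_prime Nat.prime_two] at h2
  rcases h2 with h2 | h2
  · exact Or.inr (Subgroup.index_eq_one.1 h2)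
  · refine Or.inl (Subgroup.eq_of_le_of_card_ge h ?_).symm
    have e1 := K.card_mul_index
    rw [h2, ← (alternatingGroup α).card_mul_index, alternatingGroup.index_eq_two] at e1
    exact (Nat.eq_of_mul_eq_mul_right two_pos e1).le

/-- A group normalising, and acting faithfully on, a simple subgroup of order divisible by 9. -/
theorem normalizer_structure (H T : Subgroup (Perm (Fin 8))) (hH : H ≤ alternatingGroup (Fin 8))
    (hTH : T ≤ H) (hHT : H ≤ Subgroup.normalizer (T : Set (Perm (Fin 8)))) [IsSimpleGroup T]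
    (hT : ¬ IsMulCommutative T) (hC : ∀ h ∈ H, (∀ t ∈ T, h * t = t * h) → h = 1)
    (h9 : 9 ∣ Nat.card T) :
    ∃ k : ℕ, 5 ≤ k ∧ k ≤ 8 ∧
      (Nonempty (H ≃* alternatingGroup (Fin k)) ∨ (k ≤ 6 ∧ Nonempty (H ≃* Perm (Fin k)))) := by
  classical
  obtain ⟨c, hcT, hc⟩ := exists_three_cycle_mem T h9
  obtain ⟨a, ha⟩ := Finset.card_pos.1 (by rw [hc.card_support]; norm_num : 0 < c.support.card)
  let P : Fin 8 → Prop := fun y => y ∈ orbit T a
  have hTP : ∀ t ∈ T, ∀ y, P (t y) ↔ P y := fun t ht y => ⟨fun h => by simpa [P, Subgroup.smul_def] using mem_orbit_of_mem_orbit ((⟨t, ht⟩ : T)⁻¹) h, fun h => mem_orbit_of_mem_orbit (⟨t, ht⟩ : T) h⟩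
  have hPa : P a := mem_orbit_self a
  -- restriction of T to the orbit
  let rT : T →* Perm {y // P y} :=
    { toFun := fun t => Perm.subtypePerm (t : Perm (Fin 8)) (hTP t t.2)
      map_one' := Equiv.ext fun y => Subtype.ext rfl
      map_mul' := fun s t => Equiv.ext fun y => Subtype.ext rfl }
  have hrT : ∀ (t : T) (y : {y // P y}), ((rT t) y : Fin 8) = (t : Perm (Fin 8)) y := fun t y => rfl
  have hrTinj : Function.Injective rT := by
    rw [← MonoidHom.ker_eq_bot_iff]
    refine rT.normal_ker.eq_bot_or_eq_top.resolve_right fun h => ?_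
    have h1 : rT ⟨c, hcT⟩ = 1 := MonoidHom.mem_ker.1 (h ▸ Subgroup.mem_top _)
    have h2 := congrArg (fun σ : Perm {y // P y} => ((σ ⟨a, hPa⟩ : {y // P y}) : Fin 8)) h1
    exact Perm.mem_support.1 ha h2
  let hTtrans : IsPretransitive rT.range {y // P y} := ⟨by
    rintro ⟨x, t, rfl⟩ ⟨y, s, rfl⟩
    refine ⟨⟨rT (s * t⁻¹), ⟨_, rfl⟩⟩, Subtype.ext ?_⟩
    show ((s * t⁻¹ : T) : Perm (Fin 8)) ((t : Perm (Fin 8)) a) = (s : Perm (Fin 8)) a
    simp⟩
  haveI := hTtrans
  have e := MonoidHom.ofInjective hrTinj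
  haveI : Nontrivial rT.range := e.toEquiv.nontrivial_congr.1 inferInstance
  haveI : IsSimpleGroup rT.range := IsSimpleGroup.isSimpleGroup_of_surjective e.toMonoidHom e.surjective
  have hTna : ¬ IsMulCommutative rT.range := fun h => hT ⟨⟨fun x y => e.injective (by
    rw [map_mul, map_mul]; exact h.is_comm.comm _ _)⟩⟩
  have hk8 : Fintype.card {y // P y} ≤ 8 := (Fintype.card_subtype_le _).trans (by simp)
  have hk5 : 5 ≤ Fintype.card {y // P y} := by
    by_contra h
    apply hT
    have h4 : Nat.card {y // P y} ≤ 4 := by rw [Nat.card_eq_fintype_card]; omega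
    have h1 : ∀ t : rT.range, t = 1 := fun t =>
      Subtype.ext (Equiv.ext fun y => smul_eq_of_card_le_four hTna h4 t y)
    have h2 : ∀ x : T, rT x = 1 := fun x => congrArg Subtype.val (h1 ⟨rT x, x, rfl⟩)
    exact ⟨⟨fun x y => hrTinj (by rw [map_mul, map_mul, h2 x, h2 y])⟩⟩
  -- T fixes every point outside the orbit
  have hout : ∀ t ∈ T, ∀ y, ¬ P y → t y = y := by
    intro t ht y hy
    let fT : T →* Perm {y // ¬ P y} :=
      { toFun := fun t => Perm.subtypePerm (t : Perm (Fin 8)) (fun z => not_congr (hTP t t.2 z))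
        map_one' := Equiv.ext fun y => Subtype.ext rfl
        map_mul' := fun s t => Equiv.ext fun y => Subtype.ext rfl }
    letI : MulAction T {y // ¬ P y} := MulAction.compHom _ fT
    have h4 : Nat.card {y // ¬ P y} ≤ 4 := by
      rw [Nat.card_eq_fintype_card, Fintype.card_subtype_compl, Fintype.card_fin]; omega
    exact congrArg Subtype.val (smul_eq_of_card_le_four hT h4 (⟨t, ht⟩ : T) ⟨y, hy⟩)
  -- the three-cycle restricted to the orbit
  have hc' : (rT ⟨c, hcT⟩).IsThreeCycle := by
    rw [← card_support_eq_three_iff, ← hc.card_support]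
    refine Finset.card_bij (fun y _ => (y : Fin 8)) (fun y hy => ?_) (fun y _ z _ h => Subtype.ext h) (fun y hy => ?_)
    · rw [Perm.mem_support] at hy ⊢
      exact fun h => hy (Subtype.ext h)
    · have hPy : P y := by
        by_contra h
        exact Perm.mem_support.1 hy (hout c hcT y h)
      refine ⟨⟨y, hPy⟩, ?_, rfl⟩
      rw [Perm.mem_support] at hy ⊢
      exact fun h => hy (congrArg Subtype.val h)
  have hTalt : rT.range = alternatingGroup {y // P y} :=
    eq_alternatingGroup_of_transitive hk8 rT.range hTna hc' ⟨_, rfl⟩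
  -- H preserves the orbit
  have hHP1 : ∀ h ∈ H, ∀ y, P y → P (h y) := by
    intro h hh y hy
    by_contra hn
    -- then h y is fixed by T, so y is fixed by T, impossible on an orbit of length ≥ 5
    have hfix : ∀ t ∈ T, t y = y := by
      intro t ht
      have := hout _ ((Subgroup.mem_normalizer_iff.1 (hHT hh) t).1 ht) (h y) hn
      simpa using this
    have : Subsingleton {y // P y} := ⟨fun u v => by
      have hall : ∀ u : {y // P y}, u = ⟨y, hy⟩ := fun u => by
        obtain ⟨t, ht⟩ := exists_smul_eq rT.range (⟨y, hy⟩ : {y // P y}) u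
        obtain ⟨t, t', rfl⟩ := t
        rw [← ht]
        exact Subtype.ext (hfix t' t'.2)
      rw [hall u, hall v]⟩
    have := Fintype.card_le_one_iff_subsingleton.2 this
    omega
  have hHP : ∀ h ∈ H, ∀ y, P (h y) ↔ P y := fun h hh y =>
    ⟨fun hy => by simpa using hHP1 h⁻¹ (H.inv_mem hh) _ hy, hHP1 h hh y⟩
  let rH : H →* Perm {y // P y} :=
    { toFun := fun t => Perm.subtypePerm (t : Perm (Fin 8)) (hHP t t.2)
      map_one' := Equiv.ext fun y => Subtype.ext rfl
      map_mul' := fun s t => Equiv.ext fun y => Subtype.ext rfl }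
  have hrHinj : Function.Injective rH := by
    rw [injective_iff_map_eq_one]
    intro h hh
    refine Subtype.ext (hC h h.2 fun t ht => Equiv.ext fun y => ?_)
    have hP : ∀ z, P z → (h : Perm (Fin 8)) z = z := fun z hz =>
      congrArg (fun σ : Perm {y // P y} => ((σ ⟨z, hz⟩ : {y // P y}) : Fin 8)) hh
    show (h : Perm (Fin 8)) (t y) = t ((h : Perm (Fin 8)) y)
    by_cases hy : P y
    · rw [hP y hy, hP _ ((hTP t ht y).2 hy)]
    · rw [hout t ht y hy, hout t ht _ (fun hh' => hy ((hHP h h.2 y).1 hh'))]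
  have hle : alternatingGroup {y // P y} ≤ rH.range := by
    rw [← hTalt]
    rintro _ ⟨t, rfl⟩
    exact ⟨⟨t, hTH t.2⟩, Equiv.ext fun y => rfl⟩
  haveI : Nontrivial {y // P y} := Fintype.one_lt_card_iff_nontrivial.1 (by omega)
  refine ⟨Fintype.card {y // P y}, hk5, hk8, ?_⟩
  have eH := MonoidHom.ofInjective hrHinj
  have ek := Fintype.equivFin {y // P y}
  rcases eq_alternatingGroup_or_eq_top hle with h | h
  · exact Or.inl ⟨(eH.trans (MulEquiv.subgroupCongr h)).trans ek.altCongrHom⟩
  · refine Or.inr ⟨?_, ⟨((eH.trans (MulEquiv.subgroupCongr h)).trans Subgroup.topEquiv).trans ek.permCongrHom⟩⟩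
    by_contra h6
    -- an odd permutation on the orbit has to move a point outside, but there is at most one
    obtain ⟨⟨u, v, huv⟩⟩ : Nonempty (Σ' u v : {y // P y}, u ≠ v) := by
      obtain ⟨u, v, huv⟩ := exists_pair_ne {y // P y}
      exact ⟨⟨u, v, huv⟩⟩
    obtain ⟨g, hg⟩ : swap u v ∈ rH.range := h ▸ Subgroup.mem_top _
    have hsub : ∀ z, (g : Perm (Fin 8)) z ≠ z → P z := by
      intro z hz
      by_contra hn
      apply hz
      have h7 : Fintype.card {y // ¬ P y} ≤ 1 := by
        rw [Fintype.card_subtype_compl, Fintype.card_fin]; omega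
      haveI := Fintype.card_le_one_iff_subsingleton.1 h7
      exact congrArg Subtype.val (Subsingleton.elim (⟨_, fun hh' => hn ((hHP g g.2 z).1 hh')⟩ : {y // ¬ P y}) ⟨z, hn⟩)
    have hs := Perm.sign_subtypePerm (g : Perm (Fin 8)) (hHP g g.2) hsub
    rw [show Perm.subtypePerm (g : Perm (Fin 8)) (hHP g g.2) = swap u v from hg, Perm.sign_swap huv,
      Perm.mem_alternatingGroup.1 (hH g.2)] at hs
    exact absurd hs (by decide)

end Cfsg.Agent.AltEightSub
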